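import Mathlib
import Groth.Prelude.Def_ArtFun

universe u

open CategoryTheory TensorProduct

namespace Groth.Agent.Lib.Helper5.ArtFree

section
variable (R : Type u) [CommRing R] [IsLocalRing R]
    (k : Type u) [Field k] [Algebra R k] (hk : Function.Surjective (algebraMap R k))

include hk in
theorem algebraMap_eq_zero_of_mem {a : R} (ha : a ∈ IsLocalRing.maximalIdeal R) :
    algebraMap R k a = 0 := by
  have hmax : (RingHom.ker (algebraMap R k)).IsMaximal :=
    RingHom.ker_isMaximal_of_surjective _ hk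
  rw [← IsLocalRing.eq_maximalIdeal hmax] at ha
  exact ha

theorem isLocalRing_quot (J : Ideal R) (hJ : J ≤ IsLocalRing.maximalIdeal R) :
    IsLocalRing (R ⧸ J) := by
  haveI : Nontrivial (R ⧸ J) := Ideal.Quotient.nontrivial_iff.2 (by
    rintro rfl
    exact (IsLocalRing.maximalIdeal.isMaximal R).ne_top (top_le_iff.1 hJ))
  exact IsLocalRing.of_surjective' (Ideal.Quotient.mk J) Ideal.Quotient.mk_surjective

theorem mem_ker_factor (J I : Ideal R) (hJI : J ≤ I) (r : R) :
    (Ideal.Quotient.mk J r : R ⧸ J) ∈ RingHom.ker (Ideal.Quotient.factorₐ R hJI) ↔ r ∈ I := by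
  rw [RingHom.mem_ker]
  exact Ideal.Quotient.eq_zero_iff_mem

theorem raw_small (J I : Ideal R) (hJI : J ≤ I) [IsLocalRing (R ⧸ J)]
    (x : R) (hxI : x ∈ I) (hxJ : x ∉ J) (hgen : I ≤ J ⊔ Ideal.span {x})
    (hm : IsLocalRing.maximalIdeal R * I ≤ J) :
    Function.Surjective (Ideal.Quotient.factorₐ R hJI) ∧
      RingHom.ker (Ideal.Quotient.factorₐ R hJI) ≠ ⊥ ∧
      (RingHom.ker (Ideal.Quotient.factorₐ R hJI)).IsPrincipal ∧
      IsLocalRing.maximalIdeal (R ⧸ J) * RingHom.ker (Ideal.Quotient.factorₐ R hJI) = ⊥ := by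
  refine ⟨?_, ?_, ?_, ?_⟩
  · intro y
    obtain ⟨r, rfl⟩ := Ideal.Quotient.mk_surjective y
    exact ⟨Ideal.Quotient.mk J r, rfl⟩
  · intro hbot
    have h1 : (Ideal.Quotient.mk J x : R ⧸ J) ∈
        RingHom.ker (Ideal.Quotient.factorₐ R hJI) :=
      (mem_ker_factor R J I hJI x).2 hxI
    rw [hbot, Ideal.mem_bot] at h1
    exact hxJ (Ideal.Quotient.eq_zero_iff_mem.1 h1)
  · refine ⟨⟨(Ideal.Quotient.mk J x : R ⧸ J), ?_⟩⟩
    apply le_antisymm
    · intro y hy
      obtain ⟨r, rfl⟩ := Ideal.Quotient.mk_surjective y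
      have hr : r ∈ I := (mem_ker_factor R J I hJI r).1 hy
      obtain ⟨j, hj, z, hz, rfl⟩ := Submodule.mem_sup.1 (hgen hr)
      obtain ⟨a, rfl⟩ := Ideal.mem_span_singleton'.1 hz
      have : (Ideal.Quotient.mk J (j + a * x) : R ⧸ J) =
          Ideal.Quotient.mk J a * Ideal.Quotient.mk J x := by
        rw [map_add, map_mul, Ideal.Quotient.eq_zero_iff_mem.2 hj, zero_add]
      rw [this]
      exact Ideal.mul_mem_left _ _ (Ideal.subset_span rfl)
    · rw [Ideal.submodule_span_eq, Ideal.span_le]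
      rintro _ rfl
      exact (mem_ker_factor R J I hJI x).2 hxI
  · rw [eq_bot_iff, Ideal.mul_le]
    intro u hu y hy
    obtain ⟨s, rfl⟩ := Ideal.Quotient.mk_surjective u
    obtain ⟨r, rfl⟩ := Ideal.Quotient.mk_surjective y
    have hr : r ∈ I := (mem_ker_factor R J I hJI r).1 hy
    have hs : s ∈ IsLocalRing.maximalIdeal R := by
      by_contra hs
      have hsu : IsUnit s := by
        by_contra h'
        exact hs ((IsLocalRing.mem_maximalIdeal s).2 h')
      have : IsUnit (Ideal.Quotient.mk J s : R ⧸ J) := hsu.map _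
      exact ((IsLocalRing.mem_maximalIdeal _).1 hu) this
    rw [Ideal.mem_bot, ← map_mul]
    exact Ideal.Quotient.eq_zero_iff_mem.2 (hm (Ideal.mul_mem_mul hs hr))

variable [IsArtinianRing R]

/-- the Art object `R/J` -/
noncomputable def quotArt (J : Ideal R) (hJ : J ≤ IsLocalRing.maximalIdeal R) : ArtFun.Art R k :=
  haveI := isLocalRing_quot R J hJ
  ArtFun.Art.of (R ⧸ J)
    (Ideal.Quotient.liftₐ J (Algebra.ofId R k)
      (fun a ha => algebraMap_eq_zero_of_mem R k hk (hJ ha)))
    (fun y => by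
      obtain ⟨r, rfl⟩ := hk y
      exact ⟨Ideal.Quotient.mk J r, rfl⟩)

/-- the morphism `R/J → R/I` -/
noncomputable def quotArtHom (J I : Ideal R) (hJI : J ≤ I) (hI : I ≤ IsLocalRing.maximalIdeal R) :
    quotArt R k hk J (hJI.trans hI) ⟶ quotArt R k hk I hI :=
  ArtFun.Art.homMk (Ideal.Quotient.factorₐ R hJI) (by
    apply AlgHom.ext
    intro y
    obtain ⟨r, rfl⟩ := Ideal.Quotient.mk_surjective y
    rfl)

theorem isSmallExt_quotArtHom (J I : Ideal R) (hJI : J ≤ I) (hI : I ≤ IsLocalRing.maximalIdeal R)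
    (x : R) (hxI : x ∈ I) (hxJ : x ∉ J) (hgen : I ≤ J ⊔ Ideal.span {x})
    (hm : IsLocalRing.maximalIdeal R * I ≤ J) :
    ArtFun.Art.IsSmallExt (quotArtHom R k hk J I hJI hI) := by
  haveI := isLocalRing_quot R J (hJI.trans hI)
  exact raw_small R J I hJI x hxI hxJ hgen hm

theorem tmul_one_eq_zero (M : Type u) [AddCommGroup M] [Module R M] (J : Ideal R)
    (z : M) (hz : z ∈ J • (⊤ : Submodule R M)) : z ⊗ₜ[R] (1 : R ⧸ J) = 0 := by
  refine Submodule.smul_induction_on hz ?_ ?_
  · intro j hj y _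
    rw [TensorProduct.smul_tmul]
    have : j • (1 : R ⧸ J) = 0 := by
      rw [Algebra.smul_def, mul_one]
      exact Ideal.Quotient.eq_zero_iff_mem.2 hj
    rw [this, TensorProduct.tmul_zero]
  · intro a b ha hb
    rw [TensorProduct.add_tmul, ha, hb, add_zero]

theorem raw_key (M : Type u) [AddCommGroup M] [Module R M] (J I : Ideal R) (hJI : J ≤ I)
    (hinj : Function.Injective
      (LinearMap.lTensor M
        (((RingHom.ker (Ideal.Quotient.factorₐ R hJI)).restrictScalars R).subtype)))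
    (x : R) (hxI : x ∈ I) (hxJ : x ∉ J) (hgen : I ≤ J ⊔ Ideal.span {x})
    (m₀ : M) (hm₀ : x • m₀ ∈ J • (⊤ : Submodule R M)) :
    m₀ ∈ IsLocalRing.maximalIdeal R • (⊤ : Submodule R M) := by
  set N : Submodule R (R ⧸ J) := (RingHom.ker (Ideal.Quotient.factorₐ R hJI)).restrictScalars R
    with hN
  have hxmem : (Ideal.Quotient.mk J x : R ⧸ J) ∈ N := (mem_ker_factor R J I hJI x).2 hxI
  let xb : N := ⟨Ideal.Quotient.mk J x, hxmem⟩
  have hxb : xb ≠ 0 := by
    intro h0
    have : (Ideal.Quotient.mk J x : R ⧸ J) = 0 := congrArg Subtype.val h0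
    exact hxJ (Ideal.Quotient.eq_zero_iff_mem.1 this)
  -- step 1/2
  have h1 : m₀ ⊗ₜ[R] xb = 0 := by
    apply hinj
    rw [map_zero, LinearMap.lTensor_tmul]
    show m₀ ⊗ₜ[R] (Ideal.Quotient.mk J x : R ⧸ J) = 0
    have : (Ideal.Quotient.mk J x : R ⧸ J) = x • (1 : R ⧸ J) := by
      rw [Algebra.smul_def, mul_one]; rfl
    rw [this, ← TensorProduct.smul_tmul]
    exact tmul_one_eq_zero R M J _ hm₀
  -- step 3
  let g : R →ₗ[R] N := LinearMap.toSpanSingleton R N xb
  have hg : Function.Surjective g := by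
    rintro ⟨y, hy⟩
    obtain ⟨r, rfl⟩ := Ideal.Quotient.mk_surjective y
    have hr : r ∈ I := (mem_ker_factor R J I hJI r).1 hy
    obtain ⟨j, hj, z, hz, rfl⟩ := Submodule.mem_sup.1 (hgen hr)
    obtain ⟨a, rfl⟩ := Ideal.mem_span_singleton'.1 hz
    refine ⟨a, ?_⟩
    apply Subtype.ext
    show a • (Ideal.Quotient.mk J x : R ⧸ J) = Ideal.Quotient.mk J (j + a * x)
    rw [map_add, map_mul, Ideal.Quotient.eq_zero_iff_mem.2 hj, zero_add, Algebra.smul_def]
    rfl
  let e := g.quotKerEquivOfSurjective hg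
  have he : e.symm xb = Submodule.Quotient.mk 1 := by
    rw [LinearEquiv.symm_apply_eq]
    show xb = g 1
    simp [g]
  have h2 : m₀ ⊗ₜ[R] (Submodule.Quotient.mk 1 : R ⧸ LinearMap.ker g) = 0 := by
    have := congrArg (LinearMap.lTensor M e.symm.toLinearMap) h1
    rw [map_zero, LinearMap.lTensor_tmul] at this
    rw [← he]
    exact this
  have h3 : (Submodule.Quotient.mk m₀ : M ⧸ (LinearMap.ker g : Ideal R) • (⊤ : Submodule R M)) = 0 := by
    have := TensorProduct.tensorQuotEquivQuotSMul_tmul_mk (M := M) (LinearMap.ker g : Ideal R) m₀ 1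
    rw [one_smul] at this
    rw [← this]
    have h2' : m₀ ⊗ₜ[R] (Ideal.Quotient.mk (LinearMap.ker g : Ideal R) 1) = 0 := h2
    rw [h2', map_zero]
  have h4 : m₀ ∈ (LinearMap.ker g : Ideal R) • (⊤ : Submodule R M) :=
    (Submodule.Quotient.mk_eq_zero _).1 h3
  have hker : (LinearMap.ker g : Ideal R) ≤ IsLocalRing.maximalIdeal R := by
    apply IsLocalRing.le_maximalIdeal
    intro htop
    have : (1 : R) ∈ (LinearMap.ker g : Ideal R) := by rw [htop]; trivial
    rw [LinearMap.mem_ker] at this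
    apply hxb
    simpa [g] using this
  exact Submodule.smul_mono_left hker h4




include hk in
theorem key (M : Type u) [AddCommGroup M] [Module R M]
    (h : ∀ (A' A : ArtFun.Art R k) (p : A' ⟶ A), ArtFun.Art.IsSmallExt p →
      Function.Injective
        (LinearMap.lTensor M (((RingHom.ker p.toAlgHom).restrictScalars R).subtype)))
    (J I : Ideal R) (hJI : J ≤ I) (hI : I ≤ IsLocalRing.maximalIdeal R)
    (x : R) (hxI : x ∈ I) (hxJ : x ∉ J) (hgen : I ≤ J ⊔ Ideal.span {x})
    (hm : IsLocalRing.maximalIdeal R * I ≤ J)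
    (m₀ : M) (hm₀ : x • m₀ ∈ J • (⊤ : Submodule R M)) :
    m₀ ∈ IsLocalRing.maximalIdeal R • (⊤ : Submodule R M) := by
  have hinj := h _ _ (quotArtHom R k hk J I hJI hI)
    (isSmallExt_quotArtHom R k hk J I hJI hI x hxI hxJ hgen hm)
  exact raw_key R M J I hJI hinj x hxI hxJ hgen m₀ hm₀

theorem one_tmul_eq_zero (M : Type u) [AddCommGroup M] [Module R M]
    (z : M) (hz : z ∈ IsLocalRing.maximalIdeal R • (⊤ : Submodule R M)) :
    (1 : IsLocalRing.ResidueField R) ⊗ₜ[R] z = 0 := by
  refine Submodule.smul_induction_on hz ?_ ?_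
  · intro c hc y _
    rw [← TensorProduct.smul_tmul]
    have : c • (1 : IsLocalRing.ResidueField R) = 0 := by
      rw [Algebra.smul_def, mul_one]
      exact (IsLocalRing.residue_eq_zero_iff c).2 hc
    rw [this, TensorProduct.zero_tmul]
  · intro a b ha hb
    rw [TensorProduct.tmul_add, ha, hb, add_zero]

include hk in
theorem main (M : Type u) [AddCommGroup M] [Module R M] [Module.Finite R M]
    (h : ∀ (A' A : ArtFun.Art R k) (p : A' ⟶ A), ArtFun.Art.IsSmallExt p →
      Function.Injective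
        (LinearMap.lTensor M (((RingHom.ker p.toAlgHom).restrictScalars R).subtype))) :
    Module.Free R M := by
  classical
  let kk := IsLocalRing.ResidueField R
  let ι := Module.Free.ChooseBasisIndex kk (kk ⊗[R] M)
  let b : Module.Basis ι kk (kk ⊗[R] M) := Module.Free.chooseBasis kk (kk ⊗[R] M)
  have hsurj : Function.Surjective (TensorProduct.mk R kk M 1) :=
    TensorProduct.mk_surjective R M kk Ideal.Quotient.mk_surjective
  choose f hf using fun i => hsurj (b i)
  have hf' : ∀ i, (1 : kk) ⊗ₜ[R] f i = b i := hf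
  have hspan : Submodule.span R (Set.range f) = ⊤ :=
    IsLocalRing.span_eq_top_of_tmul_eq_basis f b hf'
  -- L1
  have L1 : ∀ a : ι → R, (∑ i, a i • f i) ∈ IsLocalRing.maximalIdeal R • (⊤ : Submodule R M) →
      ∀ i, a i ∈ IsLocalRing.maximalIdeal R := by
    intro a ha i
    have h0 := one_tmul_eq_zero R M _ ha
    rw [TensorProduct.tmul_sum] at h0
    have h1 : ∑ i, (IsLocalRing.residue R (a i)) • b i = 0 := by
      rw [← h0]
      refine Finset.sum_congr rfl fun i _ => ?_
      rw [TensorProduct.tmul_smul, hf', ← algebraMap_smul kk (a i) (b i)]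
      rfl
    have := Fintype.linearIndependent_iff.1 b.linearIndependent _ h1 i
    exact (IsLocalRing.residue_eq_zero_iff _).1 this
  have hli : LinearIndependent R f := by
    rw [Fintype.linearIndependent_iff]
    intro r hr
    by_contra hne
    push Not at hne
    obtain ⟨i₀, hi₀⟩ := hne
    set I : Ideal R := Ideal.span (Set.range r) with hIdef
    have hrI : ∀ i, r i ∈ I := fun i => Ideal.subset_span ⟨i, rfl⟩
    have hI0 : I ≠ ⊥ := by
      intro hbot
      have := hrI i₀
      rw [hbot, Ideal.mem_bot] at this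
      exact hi₀ this
    have hIm : I ≤ IsLocalRing.maximalIdeal R := by
      rw [hIdef, Ideal.span_le]
      rintro _ ⟨i, rfl⟩
      exact L1 r (by rw [hr]; exact Submodule.zero_mem _) i
    obtain ⟨J, hJI, hJmax⟩ := wellFounded_gt.has_min {J : Ideal R | J < I}
      ⟨⊥, bot_lt_iff_ne_bot.2 hI0⟩
    have hJI' : J < I := hJI
    obtain ⟨x, hxI, hxJ⟩ := SetLike.exists_of_lt hJI'
    have hJx : J < J ⊔ Ideal.span {x} := by
      refine lt_of_le_of_ne le_sup_left ?_
      intro heq
      apply hxJ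
      rw [heq]
      exact Ideal.mem_sup_right (Ideal.subset_span rfl)
    have hgen : I ≤ J ⊔ Ideal.span {x} := by
      have hle : J ⊔ Ideal.span {x} ≤ I :=
        sup_le hJI'.le ((Ideal.span_singleton_le_iff_mem _).2 hxI)
      rcases lt_or_eq_of_le hle with hlt | heq
      · exact absurd hJx (hJmax _ hlt)
      · exact heq.ge
    have hm : IsLocalRing.maximalIdeal R * I ≤ J := by
      have hle : J ⊔ IsLocalRing.maximalIdeal R * I ≤ I := sup_le hJI'.le Ideal.mul_le_right
      rcases lt_or_eq_of_le hle with hlt | heq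
      · have := hJmax _ hlt
        have h2 : J ⊔ IsLocalRing.maximalIdeal R * I = J :=
          (eq_of_le_of_not_lt le_sup_left this).symm
        rw [← h2]
        exact le_sup_right
      · exfalso
        have hfg : (I : Submodule R R).FG := IsNoetherian.noetherian I
        have : I ≤ J := Submodule.le_of_le_smul_of_le_jacobson_bot hfg
          (by rw [IsLocalRing.jacobson_eq_maximalIdeal _ bot_ne_top])
          (by rw [smul_eq_mul]; exact heq.ge)
        exact (lt_irrefl _ (lt_of_lt_of_le hJI' this))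
    have hdec : ∀ i, ∃ j ∈ J, ∃ a : R, r i = j + a * x := by
      intro i
      obtain ⟨j, hj, z, hz, hjz⟩ := Submodule.mem_sup.1 (hgen (hrI i))
      obtain ⟨a, rfl⟩ := Ideal.mem_span_singleton'.1 hz
      exact ⟨j, hj, a, hjz.symm⟩
    choose j hj a hja using hdec
    have hx0 : x • (∑ i, a i • f i) ∈ J • (⊤ : Submodule R M) := by
      have : x • (∑ i, a i • f i) = - ∑ i, j i • f i := by
        rw [eq_neg_iff_add_eq_zero, Finset.smul_sum, ← Finset.sum_add_distrib, ← hr]
        refine Finset.sum_congr rfl fun i _ => ?_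
        rw [hja i, add_smul, smul_smul, mul_comm x, add_comm]
      rw [this]
      refine Submodule.neg_mem _ (Submodule.sum_mem _ fun i _ => ?_)
      exact Submodule.smul_mem_smul (hj i) trivial
    have hm0 := key R k hk M h J I hJI'.le hIm x hxI hxJ hgen hm _ hx0
    have ha := L1 a hm0
    have : I ≤ J := by
      rw [hIdef, Ideal.span_le]
      rintro _ ⟨i, rfl⟩
      rw [hja i]
      exact J.add_mem (hj i) (hm (Ideal.mul_mem_mul (ha i) hxI))
    exact lt_irrefl _ (lt_of_lt_of_le hJI' this)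
  exact Module.Free.of_basis (Module.Basis.mk hli hspan.ge)

end

end Groth.Agent.Lib.Helper5.ArtFree
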